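import Cfsg.Agent.Lib.Co2Three.Point.Sub
import Mathlib.GroupTheory.Perm.Cycle.Type
import Mathlib.GroupTheory.GroupAction.Quotient
import Mathlib.GroupTheory.NoncommPiCoprod

/-!
Exactly one point in each coset of the centre: an orbit of length 19 or 28 is impossible in a group of
automorphisms of the elementary abelian group of order 81.
-/

set_option autoImplicit false
set_option linter.style.haveILetI false
set_option linter.unusedSectionVars false

namespace Cfsg.Agent.Co2Three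

open Subgroup
open scoped commutatorElement

/-- An automorphism of order 7 or 19 of a group of order 81 is trivial. -/
theorem aut_eq_one {J : Type*} [Group J] [Finite J] (hJ : Nat.card J = 81) {p : ℕ} (hp : p = 7 ∨ p = 19)
    (σ : J ≃* J) (hσ : σ ^ p = 1) : σ = 1 := by
  classical
  haveI := Fintype.ofFinite J
  haveI : Fact p.Prime := ⟨by rcases hp with rfl | rfl <;> norm_num⟩
  let F : Function.End J := fun x => σ x
  have hpow : ∀ n : ℕ, ∀ x, (F ^ n) x = (σ ^ n) x := by
    intro n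
    induction n with
    | zero => intro x; rfl
    | succ n ih =>
      intro x
      rw [pow_succ', pow_succ', MulAut.mul_apply, ← ih]
      rfl
  have hFp : F ^ p ^ 1 = 1 := by
    funext x
    rw [pow_one, hpow, hσ]
    rfl
  have h := Equiv.Perm.card_fixedPoints_modEq hFp
  let A : Subgroup J := σ.toMonoidHom.eqLocus (MonoidHom.id J)
  have e : Function.fixedPoints F ≃ A :=
    { toFun := fun v => ⟨v.1, v.2⟩
      invFun := fun v => ⟨v.1, v.2⟩
      left_inv := fun _ => rfl
      right_inv := fun _ => rfl }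
  rw [Fintype.card_congr e, ← Nat.card_eq_fintype_card, ← Nat.card_eq_fintype_card, hJ] at h
  obtain ⟨i, hi, hA⟩ := (Nat.dvd_prime_pow Nat.prime_three).1
    (show Nat.card A ∣ 3 ^ 4 by
      rw [← show Nat.card J = 3 ^ 4 from hJ]
      exact card_subgroup_dvd_card A)
  have hi4 : i = 4 := by
    rw [hA] at h
    rcases hp with rfl | rfl <;> interval_cases i <;> simp_all [Nat.ModEq]
  have htop : A = ⊤ := eq_top_of_card_eq _ (by rw [hA, hi4, hJ]; norm_num)
  refine MulEquiv.ext fun x => ?_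
  exact (show x ∈ A from htop ▸ mem_top x)

namespace Base

variable {G : Type*} [Group G] [Finite G] {Q : Subgroup G} {z z' : G}

/-- A conjugate of the second point in each coset of the centre. -/
theorem exists_move (b : Base Q z z') {a : G} (ha : a ∈ b.A) :
    ∃ y ∈ Q, ∃ k : ZMod 3, y * z' * y⁻¹ = a * pw z k * z' := by
  have h1 : ⁅z', a⁻¹⁆ ∈ zpowers z := by
    rw [commutatorElement_eq_one_iff_mul_comm.2 (b.commute_A (inv_mem ha)).symm.eq]
    exact one_mem _
  obtain ⟨r, hr, c, hc, hac⟩ := b.pt.W_img z' b.com b.not_mem (by rw [b.z'3]; exact one_mem _) a⁻¹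
    (inv_mem ha.1) h1
  obtain ⟨k, rfl⟩ : ∃ k : ZMod 3, pw z k = c := by
    rcases b.pt.zpow_cases hc with e | e | e
    · exact ⟨0, e ▸ pw_zero z⟩
    · exact ⟨1, by rw [e, pw_one]⟩
    · exact ⟨-1, by rw [e, pw_neg b.pt.z3, pw_one]⟩
  refine ⟨r, hr, k, ?_⟩
  have e : r * z' * r⁻¹ = ⁅z', r⁆⁻¹ * z' := by simp only [commutatorElement_def]; group
  rw [e, show ⁅z', r⁆ = a⁻¹ * (pw z k)⁻¹ by rw [hac, mul_inv_cancel_right],
    mul_inv_rev, inv_inv, inv_inv, (show Commute a (pw z k) from (b.pt.commute_z ha.1).pow_right _).symm.eq]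

/-- Conjugation by the core shifts the central exponent. -/
theorem point_shift (b : Base Q z z') {a y : G} (hy : y ∈ Q) {k : ZMod 3}
    (h : y * z' * y⁻¹ = a * pw z k * z') (j : ZMod 3) :
    IsPoint z (a * pw z (k + j) * z') ↔ IsPoint z (pw z j * z') := by
  have e : y * (pw z j * z') * y⁻¹ = a * pw z (k + j) * z' := by
    have hc : Commute y (pw z j) := (b.pt.commute_z hy).pow_right _
    calc y * (pw z j * z') * y⁻¹ = y * pw z j * y⁻¹ * (y * z' * y⁻¹) := by group
      _ = pw z j * (a * pw z k * z') := by rw [hc.eq, mul_inv_cancel_right, h]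
      _ = a * pw z (k + j) * z' := by
        have hz' : Commute (pw z j) z' := (b.com.pow_right j.val).symm
        rw [add_comm, pw_add b.pt.z3]
        have ha : y * z' * y⁻¹ * z'⁻¹ * (pw z k)⁻¹ = a := by rw [h]; group
        have haz : Commute (pw z j) a := by
          rw [← ha]
          exact (((hc.symm.mul_right hz').mul_right hc.symm.inv_right).mul_right hz'.inv_right).mul_right
            (Commute.pow_pow (Commute.refl z) _ _).inv_right
        rw [← mul_assoc a, ← haz.eq]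
        group
  rw [← e]
  exact ⟨fun hp => by
    have := hp.conj y⁻¹
    rwa [show y⁻¹ * (y * (pw z j * z') * y⁻¹) * y⁻¹⁻¹ = pw z j * z' by group] at this, fun hp => hp.conj y⟩

theorem point_Q (b : Base Q z z') {x : G} (hx : IsPoint z x) (hxQ : x ∈ Q) : x = z ∨ x = z⁻¹ := by
  obtain ⟨Q', h'⟩ := hx.exists_pt b.pt
  exact (b.pt.zpow_cases (b.pt.mem_zpowers_of_mem_core h' hxQ)).resolve_left h'.z_ne

/-- The points of the subgroup. -/
def pts (b : Base Q z z') : Set b.J := {x | IsPoint z (x : G)}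

/-- The coefficients of the points of the coset of the second point. -/
def ptsA (b : Base Q z z') : Set b.A := {a | IsPoint z ((a : G) * z')}

/-- The central exponents. -/
def ks (_b : Base Q z z') : Set (ZMod 3) := {k | IsPoint z (pw z k * z')}

theorem zero_mem_ks (b : Base Q z z') : (0 : ZMod 3) ∈ b.ks := by
  show IsPoint z (pw z 0 * z')
  rw [pw_zero, one_mul]
  exact b.point

theorem ncard_ptsA (b : Base Q z z') : b.ptsA.ncard = 9 * b.ks.ncard := by
  classical
  set Zs : Subgroup b.A := (zpowers z).subgroupOf b.A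
  have hq : Nat.card (b.A ⧸ Zs) = 9 := by
    have h := Zs.card_mul_index
    rw [index_eq_card, Nat.card_congr (subgroupOfEquivOfLe (zpowers_le.2 b.z_mem_A)).toEquiv,
      b.pt.core.card_zpowers, b.card_A] at h
    omega
  choose y hy k hk using fun q : b.A ⧸ Zs => b.exists_move q.out.2
  have hzA : ∀ i : ZMod 3, pw z i ∈ b.A := pw_mem b.z_mem_A
  let f : (b.A ⧸ Zs) × ↥b.ks → ↥b.ptsA := fun p =>
    ⟨⟨(p.1.out : G) * pw z (k p.1 + p.2), mul_mem p.1.out.2 (hzA _)⟩, (b.point_shift (hy p.1) (hk p.1) p.2).2 p.2.2⟩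
  have hf : Function.Bijective f := by
    constructor
    · rintro ⟨q, i⟩ ⟨q', i'⟩ he
      have e : (q.out : G) * pw z (k q + i) = (q'.out : G) * pw z (k q' + i') :=
        congrArg (fun x : ↥b.ptsA => ((x : b.A) : G)) he
      have hqq : q = q' := by
        rw [← QuotientGroup.out_eq' q, ← QuotientGroup.out_eq' q', QuotientGroup.eq]
        show (q.out : G)⁻¹ * (q'.out : G) ∈ zpowers z
        have : (q.out : G)⁻¹ * (q'.out : G) = pw z (k q + i) * (pw z (k q' + i'))⁻¹ := by
          rw [eq_mul_inv_iff_mul_eq, mul_assoc, ← e]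
          group
        rw [this]
        exact mul_mem (pw_mem (mem_zpowers z) _) (inv_mem (pw_mem (mem_zpowers z) _))
      subst hqq
      have e2 := mul_left_cancel e
      have e3 : (k q + (i : ZMod 3)).val = (k q + (i' : ZMod 3)).val :=
        pow_injOn_Iio_orderOf (by rw [Set.mem_Iio, b.pt.core.ord]; exact ZMod.val_lt _)
          (by rw [Set.mem_Iio, b.pt.core.ord]; exact ZMod.val_lt _) e2
      exact Prod.ext rfl (Subtype.ext (add_left_cancel (ZMod.val_injective 3 e3)))
    · rintro ⟨a, ha⟩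
      set q : b.A ⧸ Zs := QuotientGroup.mk a
      have hd : (q.out : G)⁻¹ * (a : G) ∈ zpowers z :=
        (QuotientGroup.eq.1 (QuotientGroup.out_eq' q) :)
      obtain ⟨j, hj⟩ : ∃ j : ZMod 3, pw z j = (q.out : G)⁻¹ * (a : G) := by
        rcases b.pt.zpow_cases hd with e | e | e
        · exact ⟨0, by rw [e, pw_zero]⟩
        · exact ⟨1, by rw [e, pw_one]⟩
        · exact ⟨-1, by rw [e, pw_neg b.pt.z3, pw_one]⟩
      have ha' : (a : G) = (q.out : G) * pw z (k q + (j - k q)) := by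
        rw [add_sub_cancel, hj, mul_inv_cancel_left]
      refine ⟨(q, ⟨j - k q, (b.point_shift (hy q) (hk q) (j - k q)).1 (ha' ▸ ha)⟩), ?_⟩
      exact Subtype.ext (Subtype.ext ha'.symm)
  rw [← Nat.card_coe_set_eq, ← Nat.card_congr (Equiv.ofBijective f hf), Nat.card_prod, hq,
    Nat.card_coe_set_eq]

theorem ncard_pts (b : Base Q z z') : b.pts.ncard = 2 + 2 * b.ptsA.ncard := by
  classical
  let zJ : b.J := ⟨z, b.z_mem_J⟩
  let g : b.A → b.J := fun a => ⟨(a : G) * z', mul_mem (b.A_le_J a.2) b.z'_mem_J⟩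
  have hg : Function.Injective g := fun a c he =>
    Subtype.ext (mul_right_cancel (congrArg Subtype.val he : (a : G) * z' = (c : G) * z'))
  set P₀ : Set b.J := {zJ, zJ⁻¹}
  set P₁ : Set b.J := g '' b.ptsA
  set P₂ : Set b.J := Inv.inv '' P₁
  have hsplit : b.pts = P₀ ∪ (P₁ ∪ P₂) := by
    ext x
    constructor
    · intro hx
      obtain ⟨a, ha, i, he⟩ := x.2
      rcases (show ∀ i : ZMod 3, i = 0 ∨ i = 1 ∨ i = -1 by decide) i with rfl | rfl | rfl
      · have hxQ : (x : G) ∈ Q := by rw [he, pw_zero, mul_one]; exact ha.1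
        rcases b.point_Q hx hxQ with e | e
        · exact Or.inl (Or.inl (Subtype.ext e))
        · exact Or.inl (Or.inr (Subtype.ext e))
      · rw [pw_one] at he
        refine Or.inr (Or.inl ⟨⟨a, ha⟩, ?_, Subtype.ext he.symm⟩)
        show IsPoint z (a * z')
        exact he ▸ hx
      · rw [pw_neg b.z'3, pw_one] at he
        have hi : (x : G)⁻¹ = a⁻¹ * z' := by
          rw [he, mul_inv_rev, inv_inv, ((b.commute_A ha).inv_left).eq]
        refine Or.inr (Or.inr ⟨g ⟨a⁻¹, inv_mem ha⟩, ⟨_, ?_, rfl⟩, ?_⟩)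
        · show IsPoint z (a⁻¹ * z')
          exact hi ▸ (IsPoint.inv hx)
        · exact inv_eq_iff_eq_inv.2 (Subtype.ext hi.symm)
    · rintro ((rfl | rfl) | (⟨a, ha, rfl⟩ | ⟨_, ⟨a, ha, rfl⟩, rfl⟩))
      · exact IsPoint.refl z
      · exact (IsPoint.refl z).inv
      · exact ha
      · exact IsPoint.inv ha
  have h1 : ∀ x ∈ P₁, ∃ a ∈ b.A, (x : G) = a * z' := by
    rintro _ ⟨a, -, rfl⟩; exact ⟨a, a.2, rfl⟩
  have h2 : ∀ x ∈ P₂, ∃ a ∈ b.A, (x : G) = a * pw z' (-1) := by
    rintro _ ⟨_, ⟨a, -, rfl⟩, rfl⟩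
    refine ⟨(a : G)⁻¹, inv_mem a.2, ?_⟩
    show ((a : G) * z')⁻¹ = _
    rw [mul_inv_rev, pw_neg b.z'3, pw_one, ((b.commute_A a.2).symm.inv_inv).eq]
  have h0 : ∀ x ∈ P₀, (x : G) ∈ Q := by
    rintro _ (rfl | rfl)
    · exact b.pt.core.mem
    · exact inv_mem b.pt.core.mem
  have d0 : Disjoint P₀ (P₁ ∪ P₂) := by
    refine Set.disjoint_left.2 fun x hx hx' => ?_
    rcases hx' with hx' | hx'
    · obtain ⟨a, ha, he⟩ := h1 x hx'
      exact absurd ((b.mem_Q_iff ha 1).1 (by rw [pw_one, ← he]; exact h0 x hx)) (by decide)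
    · obtain ⟨a, ha, he⟩ := h2 x hx'
      exact absurd ((b.mem_Q_iff ha (-1)).1 (by rw [← he]; exact h0 x hx)) (by decide)
  have d12 : Disjoint P₁ P₂ := by
    refine Set.disjoint_left.2 fun x hx hx' => ?_
    obtain ⟨a, ha, he⟩ := h1 x hx
    obtain ⟨c, hc, he'⟩ := h2 x hx'
    have h3 : c⁻¹ * a * pw z' (1 + 1) = 1 := by
      rw [pw_add b.z'3, pw_one, ← mul_assoc, mul_assoc c⁻¹ a, ← he, he', pw_neg b.z'3, pw_one]
      group
    exact absurd ((b.mem_Q_iff (mul_mem (inv_mem hc) ha) _).1 (by rw [h3]; exact one_mem _)) (by decide)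
  rw [hsplit, Set.ncard_union_eq d0, Set.ncard_union_eq d12, Set.ncard_pair ?_,
    Set.ncard_image_of_injective _ inv_injective, Set.ncard_image_of_injective _ hg]
  · omega
  · intro he
    have e : z = z⁻¹ := congrArg Subtype.val he
    have h2 : orderOf z ∣ 2 := orderOf_dvd_of_pow_eq_one (by rw [pow_two]; exact eq_inv_iff_mul_eq_one.1 e)
    rw [b.pt.core.ord] at h2
    norm_num at h2

theorem mem_normalizer_of (b : Base Q z z') {n : G} (h : ∀ x ∈ b.J, n * x * n⁻¹ ∈ b.J) :
    n ∈ normalizer (b.J : Set G) := by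
  set φ := (MulAut.conj n).toMonoidHom
  have hm : b.J.map φ = b.J := by
    refine eq_of_le_of_card_ge ?_ (le_of_eq ?_)
    · rintro _ ⟨x, hx, rfl⟩; exact h x hx
    · exact Nat.card_congr (equivMapOfInjective b.J φ (MulAut.conj n).injective).toEquiv
  refine mem_normalizer_iff.2 fun x => ⟨h x, fun hx => ?_⟩
  rw [← hm] at hx
  obtain ⟨y, hy, he⟩ := hx
  rwa [← (MulAut.conj n).injective he]

/-- The number of points is one or two orbit lengths, so prime to 7 and 19. -/
theorem prime_not_dvd_pts (b : Base Q z z') {p : ℕ} (hp : p = 7 ∨ p = 19) : ¬ p ∣ b.pts.ncard := by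
  classical
  intro hdvd
  haveI : Fact p.Prime := ⟨by rcases hp with rfl | rfl <;> norm_num⟩
  set R := (normalizerMonoidHom b.J).range
  let zJ : b.J := ⟨z, b.z_mem_J⟩
  set O : Set b.J := MulAction.orbit R zJ
  have hmem : ∀ {x : b.J}, x ∈ O ↔ ∃ σ : R, (σ : MulAut b.J) zJ = x := fun {x} => Iff.rfl
  have hsub : ∀ σ : R, ∀ x : b.J, IsPoint z (x : G) → IsPoint z (((σ : MulAut b.J) x : b.J) : G) := by
    rintro ⟨_, n, rfl⟩ x hx
    exact hx.conj n
  have hpts : b.pts = O ∪ Inv.inv '' O := by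
    ext x
    constructor
    · rintro ⟨g, hg | hg⟩
      · obtain ⟨n, hn, hne⟩ := b.exists_normalising x.2 (Or.inl rfl) hg
        exact Or.inl ⟨⟨_, ⟨n, b.mem_normalizer_of hn⟩, rfl⟩, Subtype.ext hne⟩
      · obtain ⟨n, hn, hne⟩ := b.exists_normalising x.2 (Or.inr rfl) hg
        refine Or.inr ⟨x⁻¹, ⟨⟨_, ⟨n, b.mem_normalizer_of hn⟩, rfl⟩, Subtype.ext ?_⟩, inv_inv x⟩
        show n * z * n⁻¹ = (x : G)⁻¹
        rw [← hne]
        group
    · rintro (hx | ⟨y, hy, rfl⟩)
      · obtain ⟨σ, rfl⟩ := hmem.1 hx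
        exact hsub σ zJ (IsPoint.refl z)
      · obtain ⟨σ, rfl⟩ := hmem.1 hy
        exact (hsub σ zJ (IsPoint.refl z)).inv
  have hpO : p ∣ O.ncard := by
    by_cases hd : Disjoint O (Inv.inv '' O)
    · rw [hpts, Set.ncard_union_eq hd, Set.ncard_image_of_injective _ inv_injective, ← two_mul] at hdvd
      refine ((Fact.out : p.Prime).dvd_mul.1 hdvd).resolve_left fun h2 => ?_
      have := Nat.le_of_dvd (by norm_num) h2
      omega
    · obtain ⟨w, hw, ⟨v, hv, hvw⟩⟩ := Set.not_disjoint_iff.1 hd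
      obtain ⟨σ, hσ⟩ := hmem.1 hw
      obtain ⟨τ, hτ⟩ := hmem.1 hv
      have hzi : zJ⁻¹ ∈ O := by
        refine hmem.2 ⟨τ⁻¹ * σ, ?_⟩
        show (τ : MulAut b.J)⁻¹ ((σ : MulAut b.J) zJ) = zJ⁻¹
        rw [hσ, ← hvw, ← hτ, ← map_inv]
        exact MulEquiv.symm_apply_apply _ _
      have hOi : Inv.inv '' O = O := by
        have hle : Inv.inv '' O ⊆ O := by
          rintro _ ⟨y, hy, rfl⟩
          obtain ⟨ρ, rfl⟩ := hmem.1 hy
          obtain ⟨ι, hι⟩ := hmem.1 hzi
          refine hmem.2 ⟨ρ * ι, ?_⟩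
          show (ρ : MulAut b.J) ((ι : MulAut b.J) zJ) = _
          rw [hι, map_inv]
        refine Set.eq_of_subset_of_ncard_le hle ?_ (Set.toFinite _)
        rw [Set.ncard_image_of_injective _ inv_injective]
      rwa [hpts, hOi, Set.union_self] at hdvd
  have hR : p ∣ Nat.card R := by
    rw [← Nat.card_coe_set_eq] at hpO
    exact hpO.trans ⟨_, ((Nat.card_congr (MulAction.orbitProdStabilizerEquivGroup R zJ)).symm.trans
      (Nat.card_prod _ _))⟩
  obtain ⟨σ, hσ⟩ := exists_prime_orderOf_dvd_card' p hR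
  have h1 := aut_eq_one b.card_J hp (σ : MulAut b.J) (by rw [← hσ, ← orderOf_coe, pow_orderOf_eq_one])
  have : orderOf σ = 1 := orderOf_eq_one_iff.2 (Subtype.ext h1)
  rw [hσ] at this
  exact (Fact.out : p.Prime).ne_one this

/-- There is exactly one point in each coset of the centre. -/
theorem ks_eq (b : Base Q z z') {k : ZMod 3} (hk : IsPoint z (pw z k * z')) : k = 0 := by
  by_contra hne
  have h0 := b.zero_mem_ks
  have h2 : 2 ≤ b.ks.ncard :=
    (Set.ncard_pair fun e : (0 : ZMod 3) = k => hne e.symm).ge.trans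
      (Set.ncard_le_ncard (Set.insert_subset h0 (Set.singleton_subset_iff.2 hk)) (Set.toFinite _))
  have h3 : b.ks.ncard ≤ 3 := (Set.ncard_le_card _).trans (by simp)
  have hc : b.pts.ncard = 2 + 18 * b.ks.ncard := by rw [b.ncard_pts, b.ncard_ptsA]; omega
  rcases (show b.ks.ncard = 2 ∨ b.ks.ncard = 3 by omega) with e | e <;> rw [e] at hc
  · exact b.prime_not_dvd_pts (Or.inr rfl) (hc ▸ by norm_num)
  · exact b.prime_not_dvd_pts (Or.inl rfl) (hc ▸ by norm_num)

/-- Uniqueness of the central exponent. -/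
theorem unique (b : Base Q z z') {a : G} (ha : a ∈ b.A) {i j : ZMod 3} (hi : IsPoint z (a * pw z i * z'))
    (hj : IsPoint z (a * pw z j * z')) : i = j := by
  obtain ⟨y, hy, k, hk⟩ := b.exists_move ha
  have h1 := b.ks_eq ((b.point_shift hy hk (i - k)).1 (by rwa [add_sub_cancel]))
  have h2 := b.ks_eq ((b.point_shift hy hk (j - k)).1 (by rwa [add_sub_cancel]))
  rw [sub_eq_zero] at h1 h2
  rw [h1, h2]

end Base

end Cfsg.Agent.Co2Three
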