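import Cfsg.Agent.Lib.Co2Three.Tools.Extra
import Cfsg.Agent.Lib.Co2Three.Tools.Signal

/-!
What is needed of the centraliser of a central element to find the elementary abelian group of order 81.
-/

set_option autoImplicit false
set_option linter.style.haveILetI false

namespace Cfsg.Agent.Co2Three

open Subgroup
open scoped commutatorElement

/-- The properties of a point: the core `Q` of the centraliser of `z`. -/
structure Pt {G : Type*} [Group G] (Q : Subgroup G) (z : G) : Prop where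
  core : Core Q z
  le : Q ≤ centralizer {z}
  normal : ∀ g ∈ centralizer ({z} : Set G), ∀ q ∈ Q, g * q * g⁻¹ ∈ Q
  exp : ∀ q ∈ Q, q ^ 3 = 1
  card_cent : Nat.card ↥(centralizer ({z} : Set G)) = 243 * 1920
  cq : ∀ g : G, Commute g z → (∀ q ∈ Q, Commute g q) → g ∈ Q
  no_normal : ∀ b ∈ Q, b ∉ zpowers z → ∀ x : G, Commute x z → Commute x b → x ^ 3 ∈ Q → x ∉ Q →
    ∃ g : G, Commute g z ∧ Commute g b ∧ (x * (g * x * g⁻¹)) ^ 3 ∉ Q
  W_card : ∀ y : G, Commute y z → y ∉ Q → y ^ 3 ∈ Q →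
    Nat.card {q : G // q ∈ Q ∧ ⁅y, q⁆ ∈ zpowers z} = 27
  W_img : ∀ y : G, Commute y z → y ∉ Q → y ^ 3 ∈ Q → ∀ w ∈ Q, ⁅y, w⁆ ∈ zpowers z →
    ∃ r ∈ Q, ∃ c ∈ zpowers z, w = ⁅y, r⁆ * c

namespace Pt

variable {G : Type*} [Group G] {Q : Subgroup G} {z : G}

theorem z3 (h : Pt Q z) : z ^ 3 = 1 := h.exp z h.core.mem

theorem z_ne (h : Pt Q z) : z ≠ 1 := fun e => by
  have h2 := h.core.ord
  rw [e, orderOf_one] at h2
  omega

theorem normal' (h : Pt Q z) {g q : G} (hg : Commute g z) (hq : q ∈ Q) : g * q * g⁻¹ ∈ Q :=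
  h.normal g (mem_centralizer_singleton_iff.2 hg.eq) q hq

theorem commute_z (h : Pt Q z) {q : G} (hq : q ∈ Q) : Commute q z :=
  mem_centralizer_singleton_iff.1 (h.le hq)

theorem fix_Z {g c : G} (hg : Commute g z) (hc : c ∈ zpowers z) : Commute g c := by
  obtain ⟨k, rfl⟩ := mem_zpowers_iff.1 hc
  exact hg.zpow_right k

/-- The inverse of the central element has the same properties. -/
theorem inv (h : Pt Q z) : Pt Q z⁻¹ := by
  have hz : zpowers z⁻¹ = zpowers z := zpowers_inv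
  have hc : centralizer ({z⁻¹} : Set G) = centralizer {z} := by
    ext g
    rw [mem_centralizer_singleton_iff, mem_centralizer_singleton_iff]
    exact Commute.inv_right_iff (a := g) (b := z)
  refine ⟨⟨h.core.card, inv_mem h.core.mem, by rw [orderOf_inv, h.core.ord], ?_, ?_⟩, hc ▸ h.le,
    hc ▸ h.normal, h.exp, hc ▸ h.card_cent, ?_, ?_, ?_, ?_⟩
  · rw [hz]; exact h.core.centre
  · rw [hz]; exact h.core.comm
  · exact fun g hg => h.cq g (Commute.inv_right_iff.1 hg)
  · intro b hb hbz x hxz hxb h3 hx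
    obtain ⟨g, hg, hgb, hg3⟩ := h.no_normal b hb (hz ▸ hbz) x (Commute.inv_right_iff.1 hxz) hxb h3 hx
    exact ⟨g, hg.inv_right, hgb, hg3⟩
  · intro y hy hyQ hy3
    rw [hz]
    exact h.W_card y (Commute.inv_right_iff.1 hy) hyQ hy3
  · intro y hy hyQ hy3 w hw
    rw [hz]
    exact h.W_img y (Commute.inv_right_iff.1 hy) hyQ hy3 w hw

/-- Transport along an automorphism. -/
theorem map (h : Pt Q z) (e : G ≃* G) : Pt (Q.map e.toMonoidHom) (e z) := by
  have hm : ∀ {x : G}, e x ∈ Q.map e.toMonoidHom ↔ x ∈ Q := fun {x} =>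
    mem_map_iff_mem (f := e.toMonoidHom) e.injective
  have hzp : ∀ {x : G}, e x ∈ zpowers (e z) ↔ x ∈ zpowers z := fun {x} => by
    rw [show zpowers (e z) = (zpowers z).map e.toMonoidHom from (MonoidHom.map_zpowers e.toMonoidHom z).symm]
    exact mem_map_iff_mem (f := e.toMonoidHom) e.injective
  have hcom : ∀ {x y : G}, Commute (e x) (e y) ↔ Commute x y := fun {x y} => by
    simp only [Commute, SemiconjBy, ← map_mul, e.injective.eq_iff]
  have hmem : ∀ {x : G}, x ∈ Q.map e.toMonoidHom ↔ ∃ q ∈ Q, e q = x := fun {x} => mem_map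
  have hce : centralizer ({e z} : Set G) = (centralizer ({z} : Set G)).map e.toMonoidHom := by
    ext g
    obtain ⟨g, rfl⟩ := e.surjective g
    refine Iff.trans ?_ (mem_map_iff_mem (f := e.toMonoidHom) (x := g) e.injective).symm
    rw [mem_centralizer_singleton_iff, mem_centralizer_singleton_iff]
    exact hcom
  refine ⟨⟨?_, hm.2 h.core.mem, by rw [← h.core.ord]; exact orderOf_injective e.toMonoidHom e.injective z,
    ?_, ?_⟩, ?_, ?_, ?_, ?_, ?_, ?_, ?_, ?_⟩
  · rw [← h.core.card]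
    exact (Nat.card_congr (equivMapOfInjective Q e.toMonoidHom e.injective).toEquiv).symm
  · intro x hx
    obtain ⟨x, hxQ, rfl⟩ := hmem.1 hx
    rw [hzp, ← h.core.centre x hxQ]
    exact ⟨fun hq q hqQ => e.injective (by rw [map_mul, map_mul]; exact hq _ (hm.2 hqQ)), fun hq q' hq' => by
      obtain ⟨q, hqQ, rfl⟩ := hmem.1 hq'
      rw [← map_mul, ← map_mul, hq q hqQ]⟩
  · intro x hx y hy
    obtain ⟨x, hxQ, rfl⟩ := hmem.1 hx
    obtain ⟨y, hyQ, rfl⟩ := hmem.1 hy
    simpa only [map_mul, map_inv] using hzp.2 (h.core.comm x hxQ y hyQ)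
  · rw [hce]; exact map_mono h.le
  · intro g hg q hq
    rw [hce] at hg
    obtain ⟨g, hgc, rfl⟩ := mem_map.1 hg
    obtain ⟨q, hqQ, rfl⟩ := hmem.1 hq
    simpa only [map_mul, map_inv, MulEquiv.coe_toMonoidHom] using hm.2 (h.normal g hgc q hqQ)
  · intro q hq
    obtain ⟨q, hqQ, rfl⟩ := hmem.1 hq
    rw [← map_pow, h.exp q hqQ, map_one]
  · rw [hce, ← h.card_cent]
    exact (Nat.card_congr (equivMapOfInjective _ e.toMonoidHom e.injective).toEquiv).symm
  · intro g hg hq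
    obtain ⟨g, rfl⟩ := e.surjective g
    exact hm.2 (h.cq g (hcom.1 hg) fun q hqQ => hcom.1 (hq _ (hm.2 hqQ)))
  · intro b hb hbz x hxz hxb h3 hx
    obtain ⟨b, hbQ, rfl⟩ := hmem.1 hb
    obtain ⟨x, rfl⟩ := e.surjective x
    obtain ⟨g, hg, hgb, hg3⟩ := h.no_normal b hbQ (fun i => hbz (hzp.2 i)) x (hcom.1 hxz) (hcom.1 hxb)
      (hm.1 (by rw [map_pow]; exact h3)) fun i => hx (hm.2 i)
    refine ⟨e g, hcom.2 hg, hcom.2 hgb, fun i => hg3 (hm.1 ?_)⟩
    simpa only [map_pow, map_mul, map_inv] using i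
  · intro y hy hyQ hy3
    obtain ⟨y, rfl⟩ := e.surjective y
    rw [← h.W_card y (hcom.1 hy) (fun i => hyQ (hm.2 i)) (hm.1 (by rw [map_pow]; exact hy3))]
    refine (Nat.card_congr (Equiv.subtypeEquiv e.toEquiv fun q => ?_)).symm
    show q ∈ Q ∧ ⁅y, q⁆ ∈ zpowers z ↔ e q ∈ Q.map e.toMonoidHom ∧ ⁅e y, e q⁆ ∈ zpowers (e z)
    rw [hm, ← map_commutatorElement, hzp]
  · intro y hy hyQ hy3 w hw hyw
    obtain ⟨y, rfl⟩ := e.surjective y
    obtain ⟨w, hwQ, rfl⟩ := hmem.1 hw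
    rw [← map_commutatorElement, hzp] at hyw
    obtain ⟨r, hr, c, hc, hwe⟩ := h.W_img y (hcom.1 hy) (fun i => hyQ (hm.2 i))
      (hm.1 (by rw [map_pow]; exact hy3)) w hwQ hyw
    exact ⟨e r, hm.2 hr, e c, hzp.2 hc, by rw [← map_commutatorElement, ← map_mul, hwe]⟩

/-- Transport along conjugation. -/
theorem conj (h : Pt Q z) (g : G) : Pt (Q.map (MulAut.conj g).toMonoidHom) (g * z * g⁻¹) := h.map (MulAut.conj g)

/-- The elements commuting with `y` up to the centre. -/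
def W (h : Pt Q z) (y : G) (_hy : Commute y z) : Subgroup G where
  carrier := {q | q ∈ Q ∧ ⁅y, q⁆ ∈ zpowers z}
  one_mem' := ⟨one_mem _, by rw [commutatorElement_one_right]; exact one_mem _⟩
  mul_mem' := by
    rintro a b ⟨ha, ha'⟩ ⟨hb, hb'⟩
    refine ⟨mul_mem ha hb, ?_⟩
    have e : ⁅y, a * b⁆ = ⁅y, a⁆ * (a * ⁅y, b⁆ * a⁻¹) := by simp only [commutatorElement_def]; group
    rw [e, (fix_Z (h.commute_z ha) hb').eq, mul_inv_cancel_right]
    exact mul_mem ha' hb'
  inv_mem' := by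
    rintro a ⟨ha, ha'⟩
    refine ⟨inv_mem ha, ?_⟩
    have e : ⁅y, a⁻¹⁆ = a⁻¹ * ⁅y, a⁆⁻¹ * a := by simp only [commutatorElement_def]; group
    rw [e, (fix_Z (h.commute_z ha).inv_left (inv_mem ha')).eq, inv_mul_cancel_right]
    exact inv_mem ha'

theorem card_W (h : Pt Q z) {y : G} (hy : Commute y z) (hyQ : y ∉ Q) (hy3 : y ^ 3 ∈ Q) :
    Nat.card (h.W y hy) = 27 := h.W_card y hy hyQ hy3

theorem W_le (h : Pt Q z) {y : G} (hy : Commute y z) : h.W y hy ≤ Q := fun _ hq => hq.1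

theorem inf_centralizer_le_W (h : Pt Q z) {y : G} (hy : Commute y z) :
    Q ⊓ centralizer {y} ≤ h.W y hy := fun q hq => ⟨hq.1, by
  rw [commutatorElement_eq_one_iff_mul_comm.2 (mem_centralizer_singleton_iff.1 hq.2).symm]
  exact one_mem _⟩

/-- A subgroup of the centraliser meets the core in a subgroup whose index divides 1920. -/
theorem relIndex_dvd (h : Pt Q z) {E : Subgroup G} (hE : E ≤ centralizer {z}) : Q.relIndex E ∣ 1920 := by
  haveI : Finite ↥(centralizer ({z} : Set G)) := Nat.finite_of_card_ne_zero (by rw [h.card_cent]; norm_num)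
  haveI : (Q.subgroupOf (centralizer {z})).Normal := ⟨fun q hq g => h.normal g g.2 q hq⟩
  have hd := relIndex_dvd_index_of_normal (Q.subgroupOf (centralizer ({z} : Set G)))
    (E.subgroupOf (centralizer ({z} : Set G)))
  rw [relIndex_subgroupOf hE] at hd
  have hi : (Q.subgroupOf (centralizer ({z} : Set G))).index = 1920 := by
    have h' := (Q.subgroupOf (centralizer ({z} : Set G))).card_mul_index
    rw [Nat.card_congr (subgroupOfEquivOfLe h.le).toEquiv, h.core.card, h.card_cent] at h'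
    omega
  rwa [hi] at hd

theorem card_inf_mul (E : Subgroup G) : Nat.card ↥(E ⊓ Q) * Q.relIndex E = Nat.card E := by
  have h' := (Q.subgroupOf E).card_mul_index
  rwa [← inf_subgroupOf_right, inf_comm Q E,
    Nat.card_congr (subgroupOfEquivOfLe inf_le_left).toEquiv, inf_subgroupOf_left] at h'

/-- A 3-subgroup of the centraliser meets the core in index at most 3. -/
theorem card_le_three_mul (h : Pt Q z) {E : Subgroup G} (hE : E ≤ centralizer {z}) {n : ℕ}
    (hn : Nat.card E = 3 ^ n) : Nat.card E ≤ 3 * Nat.card ↥(E ⊓ Q) := by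
  have hd := h.relIndex_dvd hE
  have hm := card_inf_mul (Q := Q) E
  obtain ⟨i, -, hi⟩ := (Nat.dvd_prime_pow Nat.prime_three).1 (hn ▸ Dvd.intro_left _ hm :
    Q.relIndex E ∣ 3 ^ n)
  rw [hi] at hd hm
  have hi1 : i ≤ 1 := by
    by_contra hlt
    have : (3 : ℕ) ^ 2 ∣ 1920 := (pow_dvd_pow 3 (by omega : 2 ≤ i)).trans hd
    norm_num at this
  rw [← hm, mul_comm _ (3 ^ i)]
  exact Nat.mul_le_mul_right _ ((Nat.pow_le_pow_right (by norm_num) hi1).trans (by norm_num))

end Pt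

end Cfsg.Agent.Co2Three
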