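import Cfsg.Agent.Lib.Co2Three.Point.Form
import Cfsg.Agent.Lib.Co2Three.Tools.Realise
import Cfsg.Agent.Lib.Co2Three.Tools.Signal

/-!
All properties of the elementary abelian subgroup of order 81 from two commuting points.
-/

set_option autoImplicit false
set_option linter.style.haveILetI false
set_option linter.unusedSectionVars false

namespace Cfsg.Agent.Co2Three

open Subgroup
open scoped commutatorElement

variable {G : Type*} [Group G]

/-- The coordinates with all properties concerning the elementary abelian subgroup alone. -/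
structure JData [Finite G] (Q : Subgroup G) (el : V4 → G) : Prop where
  el_add : ∀ u v, el (u + v) = el u * el v
  el_inj : Function.Injective el
  cent_J : ∀ g : G, (∀ v, Commute g (el v)) → ∃ v, g = el v
  norm_sim : ∀ g : G, (∀ v, ∃ w, g * el v * g⁻¹ = el w) →
    ∃ M : Matrix (Fin 4) (Fin 4) (ZMod 3), IsSim M ∧ ∀ v, g * el v * g⁻¹ = el (M.mulVec v)
  realise : ∀ M : Matrix (Fin 4) (Fin 4) (ZMod 3), IsSim M →
    ∃ g : G, ∀ v, g * el v * g⁻¹ = el (M.mulVec v)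
  fused : ∀ v, v ≠ 0 → ((∃ g : G, g * el e0 * g⁻¹ = el v) ↔ qf v = 0)
  no_sig : ∀ K : Subgroup G, (Nat.card K).Coprime 3 → (∀ v, ∀ k ∈ K, el v * k * (el v)⁻¹ ∈ K) → K = ⊥
  pt : Pt Q (el e0)
  Q_J : ∀ v, el v ∈ Q ↔ v 3 = 0
  secant : ∀ v, v 3 ≠ 0 → qf v ≠ 0 → ∀ g : G, Commute g (el e0) → Commute g (el v) →
    ∀ u, ∃ w, g * el u * g⁻¹ = el w
  tangent_core : ∀ b : V4, b 3 = 0 → (b 1 ≠ 0 ∨ b 2 ≠ 0) →
    Nat.card ↥(Q ⊓ centralizer {el b}) = 81 ∧
    ∀ x ∈ Q ⊓ centralizer {el b}, (∀ q ∈ Q ⊓ centralizer {el b}, x * q = q * x) ↔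
      ∃ i j : ZMod 3, x = el (i • e0 + j • b)

theorem el_natCast_smul (el : V4 → G) (h : ∀ u v, el (u + v) = el u * el v) (n : ℕ) (v : V4) :
    el ((n : ZMod 3) • v) = el v ^ n := by
  rw [Nat.cast_smul_eq_nsmul]
  exact (congrArg (elHom el h) (ofAdd_nsmul n v)).trans (map_pow (elHom el h) _ n)

theorem IsPoint.iff_conj {z z₀ x : G} (h₀ : z₀ = z ∨ z₀ = z⁻¹) {t : G} (ht : t * z * t⁻¹ = z⁻¹) :
    IsPoint z x ↔ ∃ g : G, g * z₀ * g⁻¹ = x := by
  have ht' : t * z⁻¹ * t⁻¹ = z := by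
    calc t * z⁻¹ * t⁻¹ = (t * z * t⁻¹)⁻¹ := by group
      _ = z := by rw [ht, inv_inv]
  constructor
  · rintro ⟨g, e | e⟩ <;> rcases h₀ with rfl | rfl
    · exact ⟨g, e⟩
    · exact ⟨g * t, by rw [← e]; calc g * t * z⁻¹ * (g * t)⁻¹ = g * (t * z⁻¹ * t⁻¹) * g⁻¹ := by group
                                    _ = _ := by rw [ht']⟩
    · exact ⟨g * t, by rw [← e]; calc g * t * z₀ * (g * t)⁻¹ = g * (t * z₀ * t⁻¹) * g⁻¹ := by group
                                    _ = _ := by rw [ht]⟩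
    · exact ⟨g, e⟩
  · rintro ⟨g, e⟩
    rcases h₀ with rfl | rfl
    · exact ⟨g, Or.inl e⟩
    · exact ⟨g, Or.inr e⟩

namespace Base

variable [Finite G] {Q : Subgroup G} {z z' : G}

/-- The central element is conjugate to its inverse. -/
theorem exists_inverting (b : Base Q z z')
    (hinv : ∃ n, Commute n z ∧ ∃ q ∈ Q, n * z' * n⁻¹ = q * pw z' (-1)) :
    ∃ t : G, t * z * t⁻¹ = z⁻¹ := by
  obtain ⟨n, hn, q, hq, he⟩ := hinv
  set u := n * z' * n⁻¹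
  have hne : (-1 : ZMod 3) ≠ 0 := by decide
  have huz : Commute u z := (hn.mul_left b.com).mul_left hn.inv_left
  have hune : u ∉ zpowers z := fun hm => pw_not_mem b.not_mem b.z'3 hne
    ((Subgroup.mul_mem_cancel_left Q hq).1 (he ▸ b.pt.core.zpowers_le_Q hm))
  obtain ⟨hu, -⟩ := b.point_mem_J (b.point.conj n) hune huz hq hne he
  obtain ⟨a, ha, k, (hk : u = a * pw z' k)⟩ := hu
  have hk1 : k = -1 := by
    have h : a⁻¹ * q * pw z' (-1 - k) = 1 := by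
      rw [sub_eq_add_neg, pw_add b.z'3, ← mul_assoc, mul_assoc a⁻¹, ← he, hk, pw_neg b.z'3 k]
      group
    have hmem : pw z' (-1 - k) ∈ Q :=
      (Subgroup.mul_mem_cancel_left Q (mul_mem (inv_mem ha.1) hq)).1 (h.symm ▸ one_mem _)
    by_contra hc
    exact pw_not_mem b.not_mem b.z'3 (sub_ne_zero.2 (Ne.symm hc)) hmem
  subst hk1
  have hinv' : u⁻¹ = a⁻¹ * z' := by
    rw [hk, mul_inv_rev, pw_neg b.z'3, pw_one, inv_inv, ((b.commute_A ha).inv_left).eq]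
  obtain ⟨y, -, j, hy⟩ := b.exists_move (inv_mem ha)
  have hj : j = 0 := b.unique (inv_mem ha) (hy ▸ b.point.conj y) (by
    rw [pw_zero, mul_one, ← hinv']
    exact (b.point.conj n).inv)
  rw [hj, pw_zero, mul_one, ← hinv'] at hy
  obtain ⟨g, hg⟩ := b.point
  have h1 : (n⁻¹ * y) * z' * (n⁻¹ * y)⁻¹ = z'⁻¹ := by
    calc (n⁻¹ * y) * z' * (n⁻¹ * y)⁻¹ = n⁻¹ * (y * z' * y⁻¹) * n := by group
      _ = n⁻¹ * (n * z' * n⁻¹)⁻¹ * n := by rw [hy]
      _ = z'⁻¹ := by group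
  refine ⟨g⁻¹ * (n⁻¹ * y) * g, ?_⟩
  rcases hg with e | e
  · rw [← e] at h1
    calc g⁻¹ * (n⁻¹ * y) * g * z * (g⁻¹ * (n⁻¹ * y) * g)⁻¹
        = g⁻¹ * ((n⁻¹ * y) * (g * z * g⁻¹) * (n⁻¹ * y)⁻¹) * g := by group
      _ = z⁻¹ := by rw [h1]; group
  · rw [← e] at h1
    calc g⁻¹ * (n⁻¹ * y) * g * z * (g⁻¹ * (n⁻¹ * y) * g)⁻¹
        = g⁻¹ * ((n⁻¹ * y) * (g * z⁻¹ * g⁻¹) * (n⁻¹ * y)⁻¹)⁻¹ * g := by group
      _ = z⁻¹ := by rw [h1]; group

/-- All properties of the subgroup of order 81. -/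
theorem exists_jData (b : Base Q z z')
    (hinv : ∃ n, Commute n z ∧ ∃ q ∈ Q, n * z' * n⁻¹ = q * pw z' (-1))
    (hN : Nat.card {n : G // Commute n z ∧ ∃ q ∈ Q, ∃ k : ZMod 3, k ≠ 0 ∧ n * z' * n⁻¹ = q * pw z' k} =
      243 * 48) :
    ∃ el : V4 → G, JData Q el ∧ (el e0 = z ∨ el e0 = z⁻¹) ∧ ∀ x, x ∈ b.J ↔ ∃ v, el v = x := by
  obtain ⟨el, hadd, hinj, hJ, h0, hQJ, hpt⟩ := b.exists_coord
  obtain ⟨t, ht⟩ := b.exists_inverting hinv
  have hP : Pt Q (el e0) := h0.elim (fun e => e.symm ▸ b.pt) fun e => e.symm ▸ b.pt.inv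
  have hfused : ∀ v, v ≠ 0 → ((∃ g : G, g * el e0 * g⁻¹ = el v) ↔ qf v = 0) := fun v hv => by
    rw [← hpt v hv]
    exact (IsPoint.iff_conj h0 ht).symm
  have hcz : ∀ {g : G}, Commute g (el e0) → Commute g z := fun {g} h => by
    rcases h0 with e | e
    · rwa [e] at h
    · rw [e] at h; exact Commute.inv_right_iff.1 h
  have hcz' : ∀ {g : G}, Commute g z → Commute g (el e0) := fun {g} h => by
    rcases h0 with e | e
    · rwa [e]
    · rw [e]; exact h.inv_right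
  have hcent : ∀ g : G, (∀ v, Commute g (el v)) → ∃ v, g = el v := fun g hg => by
    obtain ⟨v, hv⟩ := (hJ g).1 (b.cent_J fun x hx => by
      obtain ⟨w, rfl⟩ := (hJ x).1 hx
      exact hg w)
    exact ⟨v, hv.symm⟩
  have hnorm : ∀ n : G, (∀ x ∈ b.J, n * x * n⁻¹ ∈ b.J) → ∀ v, ∃ w, n * el v * n⁻¹ = el w := fun n hn v => by
    obtain ⟨w, hw⟩ := (hJ _).1 (hn (el v) ((hJ _).2 ⟨v, rfl⟩))
    exact ⟨w, hw.symm⟩
  have htrans : ∀ v, v ≠ 0 → qf v = 0 →
      ∃ g : G, (∀ u, ∃ w, g * el u * g⁻¹ = el w) ∧ g * el e0 * g⁻¹ = el v := fun v hv hq => by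
    obtain ⟨g, hg⟩ := (hfused v hv).2 hq
    obtain ⟨n, hn, hne⟩ := b.exists_normalising ((hJ _).2 ⟨v, rfl⟩) h0 hg
    exact ⟨n, hnorm n hn, hne⟩
  -- the stabiliser
  let N : Subgroup G := centralizer ({z} : Set G) ⊓ normalizer (b.J : Set G)
  have hNiff : ∀ n, n ∈ N ↔ Commute n z ∧ ∃ q ∈ Q, ∃ k : ZMod 3, k ≠ 0 ∧ n * z' * n⁻¹ = q * pw z' k :=
    fun n => by
      constructor
      · rintro ⟨h1, h2⟩
        have h1' : Commute n z := mem_centralizer_singleton_iff.1 h1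
        exact ⟨h1', (b.normalise_iff h1').1 fun x hx => (mem_normalizer_iff.1 h2 x).1 hx⟩
      · rintro ⟨h1, h2⟩
        exact ⟨mem_centralizer_singleton_iff.2 h1.eq, b.mem_normalizer_of ((b.normalise_iff h1).2 h2)⟩
  refine ⟨el, ⟨hadd, hinj, hcent, norm_sim_of el hadd hinj hfused, ?_, hfused, ?_, hP, hQJ, ?_, ?_⟩, h0, hJ⟩
  · refine realise_of el hadd hinj hcent hfused htrans N (fun n hn => hcz' ((hNiff n).1 hn).1)
      (fun n hn => hnorm n fun x hx => (mem_normalizer_iff.1 hn.2 x).1 hx) ?_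
    rw [show Nat.card N = Nat.card {n : G // Commute n z ∧ ∃ q ∈ Q, ∃ k : ZMod 3, k ≠ 0 ∧
      n * z' * n⁻¹ = q * pw z' k} from Nat.card_congr (Equiv.subtypeEquivRight hNiff), hN]
  · exact no_sig_of el hadd hinj (fun v hv hq => (hfused v hv).2 hq) hP.core hP.le hP.normal hP.cq hP.card_cent
  · intro v hv _ g hg hgv u
    refine secant_of el hadd hP.normal hQJ hv (fun x hx hxv => ?_) hg hgv u
    have hmem : el v ∈ b.J := (hJ _).2 ⟨v, rfl⟩
    obtain ⟨a, ha, k, hk⟩ := hmem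
    have hk0 : k ≠ 0 := fun hk0 => hv ((hQJ v).1 (by rw [hk, hk0, pw_zero, mul_one]; exact ha.1))
    have hxA : x ∈ b.A := b.mem_A_of_coset ha.1 hk0 hx (by
      rw [← hk, commutatorElement_eq_one_iff_mul_comm.2 hxv.symm.eq]
      exact one_mem _)
    obtain ⟨w, hw⟩ := (hJ x).1 (b.A_le_J hxA)
    exact ⟨w, hw.symm⟩
  · intro c hc3 hc
    have hcQ : el c ∈ Q := (hQJ c).2 hc3
    have hne : el c ∉ zpowers (el e0) := fun hm => by
      obtain ⟨k, hk⟩ : ∃ k : ℕ, el e0 ^ k = el c := by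
        obtain ⟨k, hk⟩ := (isOfFinOrder_of_finite (el e0)).mem_powers_iff_mem_zpowers.2 hm
        exact ⟨k, hk⟩
      rw [← el_natCast_smul el hadd] at hk
      have := hinj hk
      rcases hc with h | h
      · exact h (by simp [← this, e0])
      · exact h (by simp [← this, e0])
    refine ⟨hP.core.card_inf_centralizer hcQ hne, fun x hx => ?_⟩
    rw [hP.core.centre_inf_centralizer hcQ hne hx]
    constructor
    · rintro ⟨i, j, rfl⟩
      exact ⟨i, j, by rw [hadd, el_natCast_smul el hadd, el_natCast_smul el hadd]⟩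
    · rintro ⟨i, j, rfl⟩
      refine ⟨i.val, j.val, ?_⟩
      rw [← el_natCast_smul el hadd, ← el_natCast_smul el hadd, ← hadd,
        ZMod.natCast_rightInverse, ZMod.natCast_rightInverse]

end Base

end Cfsg.Agent.Co2Three
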