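import Cfsg.Agent.Lib.Co2Three.Point.Defs

/-!
Two commuting points: neither lies in the core of the other, and each centralises a subgroup of order 27 of the
core of the other.
-/

set_option autoImplicit false
set_option linter.style.haveILetI false

namespace Cfsg.Agent.Co2Three.Pt

open Subgroup
open scoped commutatorElement

variable {G : Type*} [Group G] {Q Q' : Subgroup G} {z z' : G}

theorem zpow_cases (h : Pt Q z) {x : G} (hx : x ∈ zpowers z) : x = 1 ∨ x = z ∨ x = z⁻¹ := by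
  obtain ⟨k, rfl⟩ := mem_zpowers_iff.1 hx
  rw [← zpow_mod_orderOf z k, h.core.ord]
  rcases (show k % ((3 : ℕ) : ℤ) = 0 ∨ k % ((3 : ℕ) : ℤ) = 1 ∨ k % ((3 : ℕ) : ℤ) = 2 by omega) with e | e | e <;>
    rw [e]
  · exact Or.inl (zpow_zero z)
  · exact Or.inr (Or.inl (zpow_one z))
  · refine Or.inr (Or.inr (eq_inv_of_mul_eq_one_left ?_))
    rw [show (2 : ℤ) = ((2 : ℕ) : ℤ) from rfl, zpow_natCast, ← pow_succ]
    exact h.z3

theorem mem_zpowers_symm (h : Pt Q z) (h' : Pt Q' z') (hz : z ∈ zpowers z') : z' ∈ zpowers z := by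
  rcases h'.zpow_cases hz with e | e | e
  · exact absurd e h.z_ne
  · exact e ▸ mem_zpowers z
  · rw [e, zpowers_inv]
    exact mem_zpowers z'

theorem inter_zpowers (h : Pt Q z) (h' : Pt Q' z') (hne : z' ∉ zpowers z) {x : G} (hx : x ∈ zpowers z)
    (hx' : x ∈ zpowers z') : x = 1 := by
  rcases h.zpow_cases hx with e | e | e
  · exact e
  · exact absurd (h.mem_zpowers_symm h' (e ▸ hx')) hne
  · refine absurd (h.mem_zpowers_symm h' ?_) hne
    rw [e] at hx'
    exact inv_inv z ▸ inv_mem hx'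

/-- Commuting pairs inside the intersection of a point's powers with another core are trivial. -/
theorem zpowers_inf_eq_one (h : Pt Q z) (hz : z ∉ Q') {x : G} (hx : x ∈ zpowers z) (hx' : x ∈ Q') : x = 1 := by
  rcases h.zpow_cases hx with e | e | e
  · exact e
  · exact absurd (e ▸ hx') hz
  · exact absurd (by simpa [e] using inv_mem hx') hz

/-- A finite 3-subgroup property of the subgroup of a core. -/
theorem card_core_sub (h : Pt Q z) {D : Subgroup G} (hD : D ≤ Q) : ∃ n, Nat.card D = 3 ^ n :=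
  (Nat.dvd_prime_pow Nat.prime_three).1 ((h.core.card ▸ card_dvd_of_le hD : Nat.card D ∣ 243).trans
    (by norm_num : 243 ∣ 3 ^ 5)) |>.imp fun _ hn => hn.2

theorem sl_helper (h : Pt Q z) (hb : z' ∈ Q) (hbz : z' ∉ zpowers z) {D' : Subgroup G}
    (hD : D' ≤ centralizer {z} ⊓ centralizer {z'}) (hexp : ∀ x ∈ D', x ^ 3 = 1)
    (hn : ∀ g : G, Commute g z → Commute g z' → ∀ x ∈ D', g * x * g⁻¹ ∈ D') : D' ≤ Q := by
  intro x hx
  by_contra hxQ
  obtain ⟨g, hg, hgb, hg3⟩ := h.no_normal z' hb hbz x (mem_centralizer_singleton_iff.1 (hD hx).1)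
    (mem_centralizer_singleton_iff.1 (hD hx).2) (by rw [hexp x hx]; exact one_mem _) hxQ
  exact hg3 (by rw [hexp _ (mul_mem hx (hn g hg hgb x hx))]; exact one_mem _)

variable [Finite G]

set_option linter.unusedSectionVars false

/-- No other point lies in the core. -/
theorem mem_zpowers_of_mem_core (h : Pt Q z) (h' : Pt Q' z') (hQ : z' ∈ Q) : z' ∈ zpowers z := by
  by_contra hne
  have hzz : Commute z' z := h.commute_z hQ
  set D := Q ⊓ centralizer {z'} with hDdef
  have hDc : Nat.card D = 81 := h.core.card_inf_centralizer hQ hne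
  -- the centre of the point lies in the core of the other
  have hzQ' : z ∈ Q' := by
    by_contra hz
    have hm := h'.card_le_three_mul (E := D) inf_le_right (n := 4) hDc
    have hcent : ∀ a ∈ D ⊓ Q', ∀ d ∈ D, a * d = d * a := by
      intro a ha d hd
      have h1 : ⁅d, a⁆ ∈ Q' := by
        rw [commutatorElement_def]
        exact mul_mem (h'.normal d hd.2 a ha.2) (inv_mem ha.2)
      have h2 := zpowers_inf_eq_one h hz (h.core.comm d hd.1 a ha.1.1) h1
      exact (commutatorElement_eq_one_iff_mul_comm.1 h2).symm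
    have hsub : ((D ⊓ Q' : Subgroup G) : Set G) ⊆
        Set.range fun p : Fin 3 × Fin 3 => z ^ (p.1 : ℕ) * z' ^ (p.2 : ℕ) := by
      intro a ha
      obtain ⟨i, j, rfl⟩ := (h.core.centre_inf_centralizer hQ hne ha.1).1 (hcent a ha)
      refine ⟨(⟨i % 3, Nat.mod_lt _ (by norm_num)⟩, ⟨j % 3, Nat.mod_lt _ (by norm_num)⟩), ?_⟩
      show z ^ (i % 3) * z' ^ (j % 3) = _
      rw [← h.core.ord, pow_mod_orderOf, h.core.ord, ← h'.core.ord, pow_mod_orderOf]
    have hle : Nat.card ↥(D ⊓ Q') ≤ 9 := by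
      refine (Nat.card_mono (Set.finite_range _) hsub).trans ((Finite.card_range_le _).trans (le_of_eq ?_))
      simp
    omega
  have hne' : z ∉ zpowers z' := fun hz => hne (h.mem_zpowers_symm h' hz)
  set D' := Q' ⊓ centralizer {z} with hD'def
  have hD'Q : D' ≤ Q := by
    refine h.sl_helper hQ hne (le_inf inf_le_right (inf_le_left.trans h'.le)) (fun x hx => h'.exp x hx.1) ?_
    rintro g hg hg' x ⟨hx, hxz⟩
    exact ⟨h'.normal' hg' hx, mem_centralizer_singleton_iff.2
      ((hg.mul_left (mem_centralizer_singleton_iff.1 hxz)).mul_left hg.inv_left).eq⟩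
  have hab : ∀ a ∈ D', ∀ b ∈ D', a * b = b * a := fun a ha b hb =>
    commutatorElement_eq_one_iff_mul_comm.1 (h.inter_zpowers h' hne (h.core.comm a (hD'Q ha) b (hD'Q hb))
      (h'.core.comm a ha.1 b hb.1))
  have h1 := h.core.card_abelian_le hD'Q hab
  rw [hD'def, h'.core.card_inf_centralizer hzQ' hne'] at h1
  omega

theorem not_mem_core (h : Pt Q z) (h' : Pt Q' z') (hne : z' ∉ zpowers z) : z' ∉ Q :=
  fun hQ => hne (h.mem_zpowers_of_mem_core h' hQ)

theorem not_mem_core' (h : Pt Q z) (h' : Pt Q' z') (hne : z' ∉ zpowers z) : z ∉ Q' :=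
  h'.not_mem_core h fun hz => hne (h.mem_zpowers_symm h' hz)

/-- The common centraliser inside the core is abelian. -/
theorem inf_centralizer_abelian (h : Pt Q z) (h' : Pt Q' z') (hne : z' ∉ zpowers z) :
    ∀ a ∈ Q ⊓ centralizer {z'}, ∀ b ∈ Q ⊓ centralizer {z'}, a * b = b * a := by
  set A := Q ⊓ centralizer {z'} with hA
  obtain ⟨n, hn⟩ := h.card_core_sub (inf_le_left : A ≤ Q)
  have hm := h'.card_le_three_mul (E := A) inf_le_right hn
  have hz := h.not_mem_core' h' hne
  have hcen : (Q'.subgroupOf A) ≤ center A := by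
    intro a ha
    refine mem_center_iff.2 fun d => Subtype.ext ?_
    have ha' : (a : G) ∈ Q' := mem_subgroupOf.1 ha
    have h1 : ⁅(d : G), (a : G)⁆ ∈ Q' := by
      rw [commutatorElement_def]
      exact mul_mem (h'.normal d d.2.2 a ha') (inv_mem ha')
    have h2 := zpowers_inf_eq_one h hz (h.core.comm d d.2.1 a a.2.1) h1
    exact commutatorElement_eq_one_iff_mul_comm.1 h2
  have hle : (center A).index ≤ 3 := by
    refine (Nat.le_of_dvd (Nat.pos_of_ne_zero FiniteIndex.index_ne_zero) (index_dvd_of_le hcen)).trans ?_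
    have hc := card_inf_mul (Q := Q') A
    have hpos : 0 < Nat.card ↥(A ⊓ Q') := Nat.card_pos
    show Q'.relIndex A ≤ 3
    by_contra hlt
    have : Nat.card ↥(A ⊓ Q') * 4 ≤ Nat.card A := hc ▸ Nat.mul_le_mul_left _ (by omega)
    omega
  haveI : IsCyclic (A ⧸ center A) := by
    have hc : Nat.card (A ⧸ center A) ≤ 3 := hle
    have hpos : 0 < Nat.card (A ⧸ center A) := Nat.card_pos
    rcases (show Nat.card (A ⧸ center A) = 1 ∨ Nat.card (A ⧸ center A) = 2 ∨ Nat.card (A ⧸ center A) = 3 by omega)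
      with e | e | e
    · haveI := (Nat.card_eq_one_iff_unique.1 e).1
      infer_instance
    · haveI : Fact (Nat.Prime 2) := ⟨Nat.prime_two⟩
      exact isCyclic_of_prime_card e
    · haveI : Fact (Nat.Prime 3) := ⟨Nat.prime_three⟩
      exact isCyclic_of_prime_card e
  have hmc := isMulCommutative_of_isCyclic_quotient_center_self (G := A)
  exact fun a ha b hb => congrArg Subtype.val (hmc.is_comm.comm (⟨a, ha⟩ : A) ⟨b, hb⟩)

/-- The commutator with the other point, on the elements commuting with it up to the centre. -/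
def WHom (h : Pt Q z) {y : G} (hy : Commute y z) : ↥(h.W y hy) →* zpowers z where
  toFun q := ⟨⁅y, (q : G)⁆, q.2.2⟩
  map_one' := Subtype.ext (by simp)
  map_mul' a b := Subtype.ext (by
    show ⁅y, (a : G) * b⁆ = ⁅y, (a : G)⁆ * ⁅y, (b : G)⁆
    have e : ⁅y, (a : G) * b⁆ = ⁅y, (a : G)⁆ * (a * ⁅y, (b : G)⁆ * (a : G)⁻¹) := by
      simp only [commutatorElement_def]; group
    rw [e, (fix_Z (h.commute_z a.2.1) b.2.2).eq, mul_inv_cancel_right])

omit [Finite G] in
theorem map_ker_WHom (h : Pt Q z) {y : G} (hy : Commute y z) :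
    (h.WHom hy).ker.map (h.W y hy).subtype = Q ⊓ centralizer {y} := by
  ext x
  constructor
  · rintro ⟨q, hq, rfl⟩
    exact ⟨q.2.1, mem_centralizer_singleton_iff.2
      (commutatorElement_eq_one_iff_mul_comm.1 (congrArg Subtype.val hq :)).symm⟩
  · intro hx
    exact ⟨⟨x, h.inf_centralizer_le_W hy hx⟩, Subtype.ext (commutatorElement_eq_one_iff_mul_comm.2
      (mem_centralizer_singleton_iff.1 hx.2).symm), rfl⟩

omit [Finite G] in
theorem exists_WHom (h : Pt Q z) {y : G} (hy : Commute y z) (hyQ : y ∉ Q) (hy3 : y ^ 3 ∈ Q)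
    (hc : Nat.card ↥(Q ⊓ centralizer {y}) ≠ 27) : Function.Surjective (h.WHom hy) := by
  rw [← MonoidHom.range_eq_top]
  haveI : Fact (Nat.card (zpowers z)).Prime := ⟨h.core.card_zpowers.symm ▸ Nat.prime_three⟩
  refine ((h.WHom hy).range.eq_bot_or_eq_top_of_prime_card).resolve_left fun hb => hc ?_
  have hk : (h.WHom hy).ker = ⊤ := eq_top_iff.2 fun q _ => MonoidHom.mem_ker.2 (by
    rw [← mem_bot (G := zpowers z), ← hb]
    exact ⟨q, rfl⟩)
  rw [← h.map_ker_WHom hy, hk, card_subtype, card_top, h.card_W hy hyQ hy3]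

omit [Finite G] in
theorem nine_le_inf (h : Pt Q z) {y : G} (hy : Commute y z) (hyQ : y ∉ Q) (hy3 : y ^ 3 ∈ Q) :
    9 ≤ Nat.card ↥(Q ⊓ centralizer {y}) := by
  rw [← h.map_ker_WHom hy, card_subtype]
  have hm := (h.WHom hy).ker.card_mul_index
  rw [index_ker, h.card_W hy hyQ hy3] at hm
  have hd := card_subgroup_dvd_card (h.WHom hy).range
  rw [h.core.card_zpowers] at hd
  have := Nat.le_of_dvd (by norm_num) hd
  nlinarith

/-- Two commuting points centralise each other's core in order 27. -/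
theorem card_pair (h : Pt Q z) (h' : Pt Q' z') (hcom : Commute z' z) (hne : z' ∉ zpowers z) :
    Nat.card ↥(Q' ⊓ centralizer {z}) = 27 := by
  by_contra hc
  have hne' : z ∉ zpowers z' := fun hz => hne (h.mem_zpowers_symm h' hz)
  have hz' := h.not_mem_core h' hne
  have hz := h.not_mem_core' h' hne
  have hz3 : z ^ 3 ∈ Q' := by rw [h.z3]; exact one_mem _
  have hz3' : z' ^ 3 ∈ Q := by rw [h'.z3]; exact one_mem _
  -- an element in both cores
  obtain ⟨q, hq, hq1⟩ : ∃ q ∈ Q ⊓ centralizer {z'} ⊓ Q', q ≠ 1 := by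
    by_contra hno
    push Not at hno
    have hb : Q ⊓ centralizer {z'} ⊓ Q' = ⊥ := (eq_bot_iff_forall _).2 hno
    have h9 := h.nine_le_inf hcom hz' hz3'
    obtain ⟨n, hn⟩ := h.card_core_sub (inf_le_left : Q ⊓ centralizer {z'} ≤ Q)
    have hm := h'.card_le_three_mul (E := Q ⊓ centralizer {z'}) inf_le_right hn
    rw [hb, card_bot] at hm
    omega
  obtain ⟨⟨hqQ, hqz'⟩, hqQ'⟩ := hq
  have hqnz : q ∉ zpowers z := fun hqz => hq1 (zpowers_inf_eq_one h hz hqz hqQ')
  obtain ⟨r, hr, c, hcz, hqe⟩ := h'.W_img z hcom.symm hz hz3 q hqQ' (by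
    rw [commutatorElement_eq_one_iff_mul_comm.2 (h.commute_z hqQ).symm.eq]
    exact one_mem _)
  obtain ⟨w, hw⟩ := h'.exists_WHom hcom.symm hz hz3 hc ⟨c, hcz⟩
  have hwQ : (w : G) ∈ Q' := w.2.1
  have hw' : ⁅z, (w : G)⁆ = c := congrArg Subtype.val hw
  set x := r * (w : G) with hx
  have hcr : Commute r c := fix_Z (h'.commute_z hr) hcz
  have hxz : x * z * x⁻¹ = q⁻¹ * z := by
    have e1 : (w : G) * z * (w : G)⁻¹ = c⁻¹ * z := by
      rw [← hw']; simp only [commutatorElement_def]; group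
    have e2 : r * z * r⁻¹ = c * q⁻¹ * z := by
      rw [hqe]; simp only [commutatorElement_def]; group
    calc x * z * x⁻¹ = r * ((w : G) * z * (w : G)⁻¹) * r⁻¹ := by rw [hx]; group
      _ = (r * c⁻¹ * r⁻¹) * (r * z * r⁻¹) := by rw [e1]; group
      _ = q⁻¹ * z := by rw [hcr.inv_right.eq, mul_inv_cancel_right, e2]; group
  have hxQ : x * z * x⁻¹ ∈ Q := hxz ▸ mul_mem (inv_mem hqQ) h.core.mem
  have := h.mem_zpowers_of_mem_core (h.conj x) hxQ
  rw [hxz] at this
  exact hqnz (by simpa using inv_mem (mul_mem this (inv_mem (mem_zpowers z))))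

theorem card_pair' (h : Pt Q z) (h' : Pt Q' z') (hcom : Commute z' z) (hne : z' ∉ zpowers z) :
    Nat.card ↥(Q ⊓ centralizer {z'}) = 27 :=
  h'.card_pair h hcom.symm fun hz => hne (h.mem_zpowers_symm h' hz)

theorem W_eq (h : Pt Q z) (h' : Pt Q' z') (hcom : Commute z' z) (hne : z' ∉ zpowers z) :
    h.W z' hcom = Q ⊓ centralizer {z'} := by
  refine (eq_of_le_of_card_ge (h.inf_centralizer_le_W hcom) ?_).symm
  rw [h.card_pair' h' hcom hne, h.card_W hcom (h.not_mem_core h' hne) (by rw [h'.z3]; exact one_mem _)]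

end Cfsg.Agent.Co2Three.Pt
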