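import Cfsg.Agent.Lib.Co2Three.Point.Pair
import Mathlib.GroupTheory.Sylow

/-!
The elementary abelian subgroup of order 81 attached to two commuting points.
-/

set_option autoImplicit false
set_option linter.style.haveILetI false
set_option linter.unusedSectionVars false

namespace Cfsg.Agent.Co2Three

open Subgroup
open scoped commutatorElement

variable {G : Type*} [Group G]

/-- A point: a conjugate of the central element or of its inverse. -/
def IsPoint (z x : G) : Prop := ∃ g : G, g * z * g⁻¹ = x ∨ g * z⁻¹ * g⁻¹ = x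

theorem IsPoint.conj {z x : G} (h : IsPoint z x) (g : G) : IsPoint z (g * x * g⁻¹) := by
  obtain ⟨a, ha⟩ := h
  exact ⟨g * a, ha.imp (fun e => by rw [← e]; group) fun e => by rw [← e]; group⟩

theorem IsPoint.inv {z x : G} (h : IsPoint z x) : IsPoint z x⁻¹ := by
  obtain ⟨a, ha⟩ := h
  exact ⟨a, ha.symm.imp (fun e => by rw [← e]; group) fun e => by rw [← e]; group⟩

theorem IsPoint.refl (z : G) : IsPoint z z := ⟨1, Or.inl (by simp)⟩

theorem IsPoint.exists_pt {Q : Subgroup G} {z x : G} (h : Pt Q z) (hx : IsPoint z x) :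
    ∃ Q' : Subgroup G, Pt Q' x := by
  obtain ⟨g, e | e⟩ := hx
  · exact ⟨_, e ▸ h.conj g⟩
  · exact ⟨_, e ▸ h.inv.conj g⟩

/-- Powers by residues modulo three. -/
def pw (x : G) (k : ZMod 3) : G := x ^ k.val

theorem pw_zero (x : G) : pw x 0 = 1 := by simp [pw]

theorem pw_one (x : G) : pw x 1 = x := by
  show x ^ (1 : ZMod 3).val = x
  rw [show (1 : ZMod 3).val = 1 from rfl, pow_one]

theorem pw_add {x : G} (hx : x ^ 3 = 1) (i j : ZMod 3) : pw x (i + j) = pw x i * pw x j := by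
  rw [pw, pw, pw, ← pow_add, ZMod.val_add]
  exact (pow_eq_pow_mod _ hx).symm

theorem pw_neg {x : G} (hx : x ^ 3 = 1) (i : ZMod 3) : pw x (-i) = (pw x i)⁻¹ :=
  eq_inv_of_mul_eq_one_left (by rw [← pw_add hx, neg_add_cancel, pw_zero])

theorem pw_mem {H : Subgroup G} {x : G} (hx : x ∈ H) (i : ZMod 3) : pw x i ∈ H := pow_mem hx _

theorem pw_commute {x y : G} (h : Commute x y) (i : ZMod 3) : Commute (pw x i) y := h.pow_left _

theorem pw_not_mem {H : Subgroup G} {x : G} (hx : x ∉ H) (hx3 : x ^ 3 = 1) {i : ZMod 3} (hi : i ≠ 0) :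
    pw x i ∉ H := fun hm => hx <| by
  rcases (show ∀ i : ZMod 3, i = 0 ∨ i = 1 ∨ i = -1 by decide) i with rfl | rfl | rfl
  · exact absurd rfl hi
  · rwa [pw_one] at hm
  · rw [pw_neg hx3, pw_one] at hm
    exact inv_inv x ▸ inv_mem hm

/-- Two commuting different points. -/
structure Base (Q : Subgroup G) (z z' : G) : Prop where
  pt : Pt Q z
  point : IsPoint z z'
  com : Commute z' z
  ne : z' ∉ zpowers z

namespace Base

variable {Q : Subgroup G} {z z' : G}

/-- The common centraliser inside the core. -/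
abbrev A (_b : Base Q z z') : Subgroup G := Q ⊓ centralizer {z'}

variable [Finite G]

theorem z'3 (b : Base Q z z') : z' ^ 3 = 1 := by
  obtain ⟨Q', h'⟩ := b.point.exists_pt b.pt
  exact h'.z3

theorem not_mem (b : Base Q z z') : z' ∉ Q := by
  obtain ⟨Q', h'⟩ := b.point.exists_pt b.pt
  exact b.pt.not_mem_core h' b.ne

theorem card_A (b : Base Q z z') : Nat.card b.A = 27 := by
  obtain ⟨Q', h'⟩ := b.point.exists_pt b.pt
  exact b.pt.card_pair' h' b.com b.ne

theorem A_comm (b : Base Q z z') : ∀ x ∈ b.A, ∀ y ∈ b.A, x * y = y * x := by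
  obtain ⟨Q', h'⟩ := b.point.exists_pt b.pt
  exact b.pt.inf_centralizer_abelian h' b.ne

theorem W_z' (b : Base Q z z') : b.pt.W z' b.com = b.A := by
  obtain ⟨Q', h'⟩ := b.point.exists_pt b.pt
  exact b.pt.W_eq h' b.com b.ne

theorem z_mem_A (b : Base Q z z') : z ∈ b.A :=
  ⟨b.pt.core.mem, mem_centralizer_singleton_iff.2 b.com.symm.eq⟩

theorem commute_A (b : Base Q z z') {a : G} (ha : a ∈ b.A) : Commute a z' :=
  mem_centralizer_singleton_iff.1 ha.2

/-- The subgroup of order 81. -/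
def J (b : Base Q z z') : Subgroup G where
  carrier := {x | ∃ a ∈ b.A, ∃ k : ZMod 3, x = a * pw z' k}
  one_mem' := ⟨1, one_mem _, 0, by rw [pw_zero, one_mul]⟩
  mul_mem' := by
    rintro _ _ ⟨a, ha, i, rfl⟩ ⟨c, hc, j, rfl⟩
    refine ⟨a * c, mul_mem ha hc, i + j, ?_⟩
    rw [pw_add b.z'3]
    calc a * pw z' i * (c * pw z' j) = a * (pw z' i * c) * pw z' j := by group
      _ = a * c * (pw z' i * pw z' j) := by
        rw [(pw_commute (b.commute_A hc).symm i).eq]; group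
  inv_mem' := by
    rintro _ ⟨a, ha, i, rfl⟩
    refine ⟨a⁻¹, inv_mem ha, -i, ?_⟩
    rw [pw_neg b.z'3, mul_inv_rev]
    exact ((pw_commute (b.commute_A ha).symm i).inv_inv).eq

theorem A_le_J (b : Base Q z z') : b.A ≤ b.J := fun a ha => ⟨a, ha, 0, by rw [pw_zero, mul_one]⟩

theorem z'_mem_J (b : Base Q z z') : z' ∈ b.J := ⟨1, one_mem _, 1, by rw [pw_one, one_mul]⟩

theorem z_mem_J (b : Base Q z z') : z ∈ b.J := b.A_le_J b.z_mem_A

theorem J_comm (b : Base Q z z') : ∀ x ∈ b.J, ∀ y ∈ b.J, x * y = y * x := by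
  rintro _ ⟨a, ha, i, rfl⟩ _ ⟨c, hc, j, rfl⟩
  have h1 : Commute a c := b.A_comm a ha c hc
  have h2 : Commute a (pw z' j) := (pw_commute (b.commute_A ha).symm j).symm
  have h3 : Commute (pw z' i) c := pw_commute (b.commute_A hc).symm i
  have h4 : Commute (pw z' i) (pw z' j) := Commute.pow_pow (Commute.refl z') _ _
  exact ((h1.mul_right h2).mul_left (h3.mul_right h4)).eq

theorem J_le (b : Base Q z z') : b.J ≤ centralizer {z} := fun x hx =>
  mem_centralizer_singleton_iff.2 (b.J_comm x hx z b.z_mem_J)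

theorem J_exp (b : Base Q z z') : ∀ x ∈ b.J, x ^ 3 = 1 := by
  rintro _ ⟨a, ha, i, rfl⟩
  rw [((pw_commute (b.commute_A ha).symm i).symm).mul_pow, b.pt.exp a ha.1, one_mul, pw, ← pow_mul,
    mul_comm, pow_mul, b.z'3, one_pow]

theorem mem_Q_iff (b : Base Q z z') {a : G} (ha : a ∈ b.A) (k : ZMod 3) : a * pw z' k ∈ Q ↔ k = 0 := by
  constructor
  · intro hm
    by_contra hk
    exact pw_not_mem b.not_mem b.z'3 hk ((Subgroup.mul_mem_cancel_left Q ha.1).1 hm)
  · rintro rfl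
    rw [pw_zero, mul_one]
    exact ha.1

theorem J_inf (b : Base Q z z') : b.J ⊓ Q = b.A := by
  refine le_antisymm ?_ (le_inf b.A_le_J inf_le_left)
  rintro _ ⟨⟨a, ha, k, rfl⟩, hQ⟩
  rw [(b.mem_Q_iff ha k).1 hQ, pw_zero, mul_one]
  exact ha

theorem card_J (b : Base Q z z') : Nat.card b.J = 81 := by
  have e : b.A × ZMod 3 ≃ b.J := Equiv.ofBijective (fun p => ⟨(p.1 : G) * pw z' p.2, p.1, p.1.2, p.2, rfl⟩) ⟨by
      rintro ⟨a, i⟩ ⟨c, j⟩ h
      have h1 : (a : G) * pw z' i = (c : G) * pw z' j := congrArg Subtype.val h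
      have h2 : (c : G)⁻¹ * a * pw z' (i - j) = 1 := by
        rw [sub_eq_add_neg, pw_add b.z'3, pw_neg b.z'3, ← mul_assoc, mul_assoc (c : G)⁻¹, h1]
        group
      have hij := (b.mem_Q_iff (mul_mem (inv_mem c.2) a.2) (i - j)).1 (by rw [h2]; exact one_mem _)
      rw [sub_eq_zero] at hij
      subst hij
      exact Prod.ext (Subtype.ext (mul_right_cancel h1)) rfl, by
      rintro ⟨x, a, ha, k, rfl⟩
      exact ⟨(⟨a, ha⟩, k), rfl⟩⟩
  rw [← Nat.card_congr e, Nat.card_prod, b.card_A]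
  simp

theorem W_mul {y₁ y₂ w : G} (h₁ : Commute y₁ z) (hw₁ : ⁅y₁, w⁆ ∈ zpowers z) (hw₂ : ⁅y₂, w⁆ ∈ zpowers z) :
    ⁅y₁ * y₂, w⁆ ∈ zpowers z := by
  have e : ⁅y₁ * y₂, w⁆ = y₁ * ⁅y₂, w⁆ * y₁⁻¹ * ⁅y₁, w⁆ := by simp only [commutatorElement_def]; group
  rw [e, (Pt.fix_Z h₁ hw₂).eq, mul_inv_cancel_right]
  exact mul_mem hw₂ hw₁

/-- The elements commuting with an element of the coset up to the centre. -/
theorem mem_A_of_coset (b : Base Q z z') {q w : G} (hq : q ∈ Q) {k : ZMod 3} (hk : k ≠ 0) (hw : w ∈ Q)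
    (h : ⁅q * pw z' k, w⁆ ∈ zpowers z) : w ∈ b.A := by
  have hqw : ⁅q⁻¹, w⁆ ∈ zpowers z := b.pt.core.comm _ (inv_mem hq) w hw
  have hy : ⁅pw z' k, w⁆ ∈ zpowers z := by
    have := W_mul (b.pt.commute_z (inv_mem hq)) hqw h
    rwa [inv_mul_cancel_left] at this
  have hzc : Commute (pw z' k) z := pw_commute b.com k
  have hz' : ⁅z', w⁆ ∈ zpowers z := by
    rcases (show ∀ i : ZMod 3, i = 0 ∨ i = 1 ∨ i + i = 1 by decide) k with rfl | rfl | h2
    · exact absurd rfl hk
    · rwa [pw_one] at hy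
    · have := W_mul hzc hy hy
      rwa [← pw_add b.z'3, h2, pw_one] at this
  rw [← b.W_z']
  exact ⟨hw, hz'⟩

/-- An element of the cosets centralising the common centraliser lies in the subgroup. -/
theorem mem_J_of_commute (b : Base Q z z') {q : G} (hq : q ∈ Q) (k : ZMod 3)
    (h : ∀ a ∈ b.A, Commute (q * pw z' k) a) : q * pw z' k ∈ b.J := by
  refine ⟨q, b.pt.core.self_centralising inf_le_left b.A_comm b.card_A.ge hq fun a ha => ?_, k, rfl⟩
  have h2 : Commute (pw z' k) a := pw_commute (b.commute_A ha).symm k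
  have : Commute (q * pw z' k * (pw z' k)⁻¹) a := (h a ha).mul_left h2.inv_left
  rwa [mul_inv_cancel_right] at this

/-- The points in the cosets lie in the subgroup. -/
theorem point_mem_J (b : Base Q z z') {u q : G} (hu : IsPoint z u) (hune : u ∉ zpowers z) (huz : Commute u z)
    (hq : q ∈ Q) {k : ZMod 3} (hk : k ≠ 0) (hue : u = q * pw z' k) :
    u ∈ b.J ∧ Q ⊓ centralizer {u} = b.A := by
  have c : Base Q z u := ⟨b.pt, hu, huz, hune⟩
  have hle : c.A ≤ b.A := fun w hw => b.mem_A_of_coset hq hk hw.1 (by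
    rw [← hue, commutatorElement_eq_one_iff_mul_comm.2 (c.commute_A hw).symm.eq]
    exact one_mem _)
  have heq : c.A = b.A := eq_of_le_of_card_ge hle (by rw [b.card_A, c.card_A])
  refine ⟨hue ▸ b.mem_J_of_commute hq k fun a ha => ?_, heq⟩
  rw [← hue]
  exact (c.commute_A (heq.symm ▸ ha)).symm

/-- Elements of order three of the quotient are conjugate up to inversion. -/
theorem exists_coset_conj (b : Base Q z z') {e : G} (he : Commute e z) (heQ : e ∉ Q) (he3 : e ^ 3 ∈ Q) :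
    ∃ c : G, Commute c z ∧ ∃ q ∈ Q, ∃ k : ZMod 3, k ≠ 0 ∧ c * e * c⁻¹ = q * pw z' k := by
  haveI : Fact (Nat.Prime 3) := ⟨Nat.prime_three⟩
  set C := centralizer ({z} : Set G) with hC
  set N := Q.subgroupOf C with hN
  haveI : N.Normal := ⟨fun q hq g => b.pt.normal g g.2 q hq⟩
  set π := QuotientGroup.mk' N
  have hcard : Nat.card (C ⧸ N) = 1920 := by
    rw [← index_eq_card]
    have h' := N.card_mul_index
    rw [show Nat.card N = 243 from (Nat.card_congr (subgroupOfEquivOfLe b.pt.le).toEquiv).trans b.pt.core.card,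
      show Nat.card C = 243 * 1920 from b.pt.card_cent] at h'
    omega
  have hord : ∀ (x : G) (hx : x ∈ C), x ∉ Q → x ^ 3 ∈ Q → Nat.card (zpowers (π ⟨x, hx⟩)) = 3 := by
    intro x hx hxQ hx3
    rw [Nat.card_zpowers]
    refine orderOf_eq_prime ?_ fun h1 => hxQ ((QuotientGroup.eq_one_iff _).1 h1 :)
    rw [← map_pow]
    exact (QuotientGroup.eq_one_iff _).2 (by simpa [hN, mem_subgroupOf] using hx3)
  have hmemC : ∀ {x : G}, Commute x z → x ∈ C := fun h => mem_centralizer_singleton_iff.2 h.eq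
  have hsyl : ∀ (x : G) (hx : x ∈ C), x ∉ Q → x ^ 3 ∈ Q →
      ∃ P : Sylow 3 (C ⧸ N), (P : Subgroup (C ⧸ N)) = zpowers (π ⟨x, hx⟩) := by
    intro x hx hxQ hx3
    obtain ⟨P, hP⟩ := (IsPGroup.of_card (n := 1) (by rw [hord x hx hxQ hx3, pow_one]) :
      IsPGroup 3 (zpowers (π ⟨x, hx⟩))).exists_le_sylow
    refine ⟨P, (eq_of_le_of_card_ge hP ?_).symm⟩
    obtain ⟨n, hn⟩ := IsPGroup.iff_card.1 P.2
    have hd := card_subgroup_dvd_card (P : Subgroup (C ⧸ N))
    rw [hcard, hn] at hd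
    rw [hord x hx hxQ hx3, hn]
    by_contra hlt
    push Not at hlt
    have h2 : 2 ≤ n := by
      by_contra hn2
      have : 3 ^ n ≤ 3 ^ 1 := Nat.pow_le_pow_right (by norm_num) (by omega)
      omega
    have : (3 : ℕ) ^ 2 ∣ 1920 := (pow_dvd_pow 3 h2).trans hd
    norm_num at this
  obtain ⟨P₁, hP₁⟩ := hsyl e (hmemC he) heQ he3
  obtain ⟨P₂, hP₂⟩ := hsyl z' (hmemC b.com) b.not_mem (by rw [b.z'3]; exact one_mem _)
  obtain ⟨g, hg⟩ := MulAction.exists_smul_eq (C ⧸ N) P₁ P₂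
  obtain ⟨c, rfl⟩ := QuotientGroup.mk'_surjective N g
  have hmem : π c * π ⟨e, hmemC he⟩ * (π c)⁻¹ ∈ zpowers (π ⟨z', hmemC b.com⟩) := by
    rw [← hP₂, ← hg]
    exact ⟨π ⟨e, hmemC he⟩, hP₁ ▸ mem_zpowers _, rfl⟩
  obtain ⟨m, hm⟩ := mem_zpowers_iff.1 hmem
  rw [← map_zpow, ← map_inv, ← map_mul, ← map_mul, QuotientGroup.mk'_eq_mk'] at hm
  obtain ⟨⟨x, hxC⟩, hxN, hx⟩ := hm
  have hxQ : x ∈ Q := hxN
  have hx' : z' ^ m * x = (c : G) * e * (c : G)⁻¹ := congrArg Subtype.val hx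
  have hcz : Commute (c : G) z := mem_centralizer_singleton_iff.1 c.2
  have hzm : Commute (z' ^ m) z := b.com.zpow_left m
  have hpw : z' ^ m = pw z' (m : ZMod 3) := by
    have hv : (((m : ZMod 3).val : ℕ) : ℤ) = m % 3 := by exact_mod_cast ZMod.val_intCast m
    rw [pw, ← zpow_natCast, hv]
    exact zpow_eq_zpow_emod' m b.z'3
  refine ⟨c, hcz, z' ^ m * x * (z' ^ m)⁻¹, b.pt.normal' hzm hxQ, (m : ZMod 3), fun h0 => ?_, ?_⟩
  · rw [hpw, h0, pw_zero, one_mul] at hx'
    apply heQ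
    have := b.pt.normal' hcz.inv_left hxQ
    rwa [hx', show (c : G)⁻¹ * ((c : G) * e * (c : G)⁻¹) * (c : G)⁻¹⁻¹ = e by group] at this
  · rw [← hx', ← hpw]
    group

/-- The elementary abelian subgroups of order 81 of the centraliser are conjugate to the subgroup. -/
theorem exists_conj_eq (b : Base Q z z') {E : Subgroup G} (hE : E ≤ centralizer {z})
    (hab : ∀ x ∈ E, ∀ y ∈ E, x * y = y * x) (hexp : ∀ x ∈ E, x ^ 3 = 1) (h81 : Nat.card E = 81) :
    ∃ c : G, Commute c z ∧ E.map (MulAut.conj c).toMonoidHom = b.J := by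
  obtain ⟨e, heE, heQ⟩ : ∃ e ∈ E, e ∉ Q := by
    by_contra hno
    push Not at hno
    have := b.pt.core.card_abelian_le hno hab
    omega
  obtain ⟨c, hcz, q, hq, k, hk, hce⟩ := b.exists_coset_conj (mem_centralizer_singleton_iff.1 (hE heE)) heQ
    (by rw [hexp e heE]; exact one_mem _)
  refine ⟨c, hcz, ?_⟩
  set φ := (MulAut.conj c).toMonoidHom with hφ
  set E₁ := E.map φ with hE₁
  have hφi : Function.Injective φ := (MulAut.conj c).injective
  have h81' : Nat.card E₁ = 81 := by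
    rw [hE₁, ← Nat.card_congr (equivMapOfInjective E φ hφi).toEquiv, h81]
  have hab' : ∀ x ∈ E₁, ∀ y ∈ E₁, x * y = y * x := by
    rintro _ ⟨x, hx, rfl⟩ _ ⟨y, hy, rfl⟩
    rw [← map_mul, ← map_mul, hab x hx y hy]
  have hE₁C : E₁ ≤ centralizer {z} := by
    rintro _ ⟨x, hx, rfl⟩
    refine mem_centralizer_singleton_iff.2 ?_
    have hxz : Commute x z := mem_centralizer_singleton_iff.1 (hE hx)
    exact ((hcz.mul_left hxz).mul_left hcz.inv_left).eq
  set e₁ := q * pw z' k with he₁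
  have he₁E : e₁ ∈ E₁ := hce ▸ mem_map_of_mem φ heE
  have hle : E₁ ⊓ Q ≤ b.A := fun w hw => b.mem_A_of_coset hq hk hw.2 (by
    rw [commutatorElement_eq_one_iff_mul_comm.2 (hab' _ he₁E w hw.1)]
    exact one_mem _)
  have heq : E₁ ⊓ Q = b.A := by
    refine eq_of_le_of_card_ge hle ?_
    have := b.pt.card_le_three_mul hE₁C (n := 4) h81'
    rw [b.card_A]
    omega
  have hAE : b.A ≤ E₁ := heq ▸ inf_le_left
  have he₁J : e₁ ∈ b.J := b.mem_J_of_commute hq k fun a ha => hab' _ he₁E a (hAE ha)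
  set S := b.A ⊔ zpowers e₁
  have hSE : S ≤ E₁ := sup_le hAE (zpowers_le.2 he₁E)
  have hSJ : S ≤ b.J := sup_le b.A_le_J (zpowers_le.2 he₁J)
  have hlt : b.A < S := lt_of_le_of_ne le_sup_left fun h0 => by
    have hm : e₁ ∈ b.A := h0.symm ▸ mem_sup_right (mem_zpowers e₁)
    exact pw_not_mem b.not_mem b.z'3 hk ((mul_mem_cancel_left hq).1 hm.1)
  have hS : Nat.card S = 81 := by
    have hd := card_dvd_of_le hSE
    rw [h81'] at hd
    obtain ⟨i, hi, hSi⟩ := (Nat.dvd_prime_pow Nat.prime_three).1 (show Nat.card S ∣ 3 ^ 4 from hd)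
    have hl : 27 < Nat.card S := by
      rw [← b.card_A]
      exact lt_of_le_of_ne (card_le_of_le hlt.le) fun h0 => hlt.ne (eq_of_le_of_card_ge hlt.le h0.ge)
    rw [hSi] at hl ⊢
    interval_cases i <;> omega
  rw [← eq_of_le_of_card_ge hSE (by rw [h81', hS]), eq_of_le_of_card_ge hSJ (by rw [b.card_J, hS])]

/-- The subgroup is self-centralising. -/
theorem cent_J (b : Base Q z z') {g : G} (hg : ∀ x ∈ b.J, Commute g x) : g ∈ b.J := by
  set K : Subgroup G := centralizer (b.J : Set G) with hK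
  have hKC : K ≤ centralizer {z} := fun k hk =>
    mem_centralizer_singleton_iff.2 (mem_centralizer_iff.1 hk z b.z_mem_J).symm
  have hJK : b.J ≤ K := fun x hx => mem_centralizer_iff.2 fun y hy => b.J_comm y hy x hx
  have h3 : IsPGroup 3 K := by
    intro k
    by_contra hk
    push Not at hk
    -- a prime different from three divides the order
    obtain ⟨p, hp, hp3, hpd⟩ : ∃ p, p.Prime ∧ p ≠ 3 ∧ p ∣ orderOf k := by
      by_contra hno
      push Not at hno
      obtain ⟨n, m, hm, hnm⟩ := Nat.exists_eq_pow_mul_and_not_dvd (orderOf_pos k).ne' 3 (by norm_num)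
      have hm1 : m = 1 := by
        by_contra hm1
        refine hno _ (Nat.minFac_prime hm1) (fun h3 => hm (h3 ▸ Nat.minFac_dvd m)) ?_
        rw [hnm]
        exact dvd_mul_of_dvd_right (Nat.minFac_dvd m) _
      refine hk n ?_
      rw [← show orderOf k = 3 ^ n by rw [hnm, hm1, mul_one]]
      exact pow_orderOf_eq_one k
    set x : K := k ^ (orderOf k / p) with hxdef
    have hxo : orderOf x = p := orderOf_pow_orderOf_div (orderOf_pos k).ne' hpd
    have hxo' : orderOf (x : G) = p := by rw [Subgroup.orderOf_coe, hxo]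
    have hxz : Commute (x : G) z := mem_centralizer_singleton_iff.1 (hKC x.2)
    have hcop : (orderOf (x : G)).Coprime 3 := by
      rw [hxo']
      exact (Nat.coprime_primes hp Nat.prime_three).2 hp3
    have hxQ : (x : G) ∈ Q := by
      refine b.pt.cq _ hxz (b.pt.core.centralise_of_coprime (fun q hq => b.pt.normal' hxz hq) hcop
        inf_le_left b.A_comm b.card_A.ge fun a ha => ?_)
      exact (mem_centralizer_iff.1 x.2 a (b.A_le_J ha)).symm
    have : orderOf (x : G) ∣ 3 := orderOf_dvd_of_pow_eq_one (b.pt.exp _ hxQ)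
    rw [hxo'] at this
    exact hp3 ((Nat.prime_dvd_prime_iff_eq hp Nat.prime_three).1 this)
  haveI : Fact (Nat.Prime 3) := ⟨Nat.prime_three⟩
  obtain ⟨n, hn⟩ := IsPGroup.iff_card.1 h3
  have hm := b.pt.card_le_three_mul hKC hn
  have hi : K ⊓ Q ≤ b.A := fun w hw =>
    ⟨hw.2, mem_centralizer_singleton_iff.2 (mem_centralizer_iff.1 hw.1 z' b.z'_mem_J).symm⟩
  have hle := card_le_of_le hi
  rw [b.card_A] at hle
  have hKJ : b.J = K := eq_of_le_of_card_ge hJK (by rw [b.card_J]; omega)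
  rw [hKJ]
  exact mem_centralizer_iff.2 fun x hx => (hg x hx).eq.symm

/-- The normaliser inside the centraliser. -/
theorem normalise_iff (b : Base Q z z') {n : G} (hn : Commute n z) :
    (∀ x ∈ b.J, n * x * n⁻¹ ∈ b.J) ↔ ∃ q ∈ Q, ∃ k : ZMod 3, k ≠ 0 ∧ n * z' * n⁻¹ = q * pw z' k := by
  constructor
  · intro h
    obtain ⟨a, ha, k, hk⟩ := h z' b.z'_mem_J
    refine ⟨a, ha.1, k, fun h0 => b.not_mem ?_, hk⟩
    have h1 : n * z' * n⁻¹ ∈ Q := by rw [hk, h0, pw_zero, mul_one]; exact ha.1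
    have := b.pt.normal' hn.inv_left h1
    rwa [show n⁻¹ * (n * z' * n⁻¹) * n⁻¹⁻¹ = z' by group] at this
  · rintro ⟨q, hq, k, hk, he⟩
    set u := n * z' * n⁻¹ with hu
    have huz : Commute u z := (hn.mul_left b.com).mul_left hn.inv_left
    have hune : u ∉ zpowers z := fun hz => by
      refine pw_not_mem b.not_mem b.z'3 hk ((mul_mem_cancel_left hq).1 ?_)
      rw [← he]
      exact b.pt.core.zpowers_le_Q hz
    obtain ⟨huJ, hA⟩ := b.point_mem_J (b.point.conj n) hune huz hq hk he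
    rintro _ ⟨a, ha, i, rfl⟩
    have h1 : n * a * n⁻¹ ∈ b.A := by
      rw [← hA]
      refine ⟨b.pt.normal' hn ha.1, mem_centralizer_singleton_iff.2 ?_⟩
      show n * a * n⁻¹ * (n * z' * n⁻¹) = n * z' * n⁻¹ * (n * a * n⁻¹)
      calc n * a * n⁻¹ * (n * z' * n⁻¹) = n * (a * z') * n⁻¹ := by group
        _ = n * z' * n⁻¹ * (n * a * n⁻¹) := by rw [(b.commute_A ha).eq]; group
    have h2 : n * pw z' i * n⁻¹ = pw u i := (conj_pow (i := i.val) (a := n) (b := z')).symm
    rw [show n * (a * pw z' i) * n⁻¹ = n * a * n⁻¹ * (n * pw z' i * n⁻¹) by group, h2]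
    exact mul_mem (b.A_le_J h1) (pw_mem huJ i)

/-- The points of the subgroup are reached inside its normaliser. -/
theorem exists_normalising (b : Base Q z z') {u : G} (hu : u ∈ b.J) {w : G} (hw : w = z ∨ w = z⁻¹) {g : G}
    (hg : g * w * g⁻¹ = u) : ∃ n : G, (∀ x ∈ b.J, n * x * n⁻¹ ∈ b.J) ∧ n * w * n⁻¹ = u := by
  set φ := (MulAut.conj g⁻¹).toMonoidHom with hφ
  have hφi : Function.Injective φ := (MulAut.conj g⁻¹).injective
  set E := b.J.map φ with hE
  have hcw : ∀ {x : G}, Commute x w → Commute x z := fun {x} h => by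
    rcases hw with e | e
    · rwa [e] at h
    · rw [e] at h; exact Commute.inv_right_iff.1 h
  have hEC : E ≤ centralizer {z} := by
    rintro _ ⟨x, hx, rfl⟩
    refine mem_centralizer_singleton_iff.2 (hcw ?_).eq
    have hwu : φ u = w := by
      rw [← hg, hφ]
      show g⁻¹ * (g * w * g⁻¹) * g⁻¹⁻¹ = w
      group
    rw [← hwu]
    exact (show Commute x u from b.J_comm x hx u hu).map φ
  obtain ⟨c, hcz, hc⟩ := b.exists_conj_eq hEC
    (by rintro _ ⟨x, hx, rfl⟩ _ ⟨y, hy, rfl⟩; rw [← map_mul, ← map_mul, b.J_comm x hx y hy])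
    (by rintro _ ⟨x, hx, rfl⟩; rw [← map_pow, b.J_exp x hx, map_one])
    (by rw [hE, ← Nat.card_congr (equivMapOfInjective b.J φ hφi).toEquiv, b.card_J])
  refine ⟨g * c⁻¹, fun x hx => ?_, ?_⟩
  · rw [← hc] at hx
    obtain ⟨y, ⟨j, hj, rfl⟩, rfl⟩ := hx
    have e : g * c⁻¹ * ((MulAut.conj c).toMonoidHom (φ j)) * (g * c⁻¹)⁻¹ = j := by
      show g * c⁻¹ * (c * (g⁻¹ * j * g⁻¹⁻¹) * c⁻¹) * (g * c⁻¹)⁻¹ = j
      group
    rw [e]
    exact hj
  · have hcw' : Commute c w := by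
      rcases hw with e | e
      · rwa [e]
      · rw [e]; exact hcz.inv_right
    calc g * c⁻¹ * w * (g * c⁻¹)⁻¹ = g * (c⁻¹ * w * c) * g⁻¹ := by group
      _ = u := by rw [hcw'.inv_left.eq, inv_mul_cancel_right, hg]

end Base

end Cfsg.Agent.Co2Three
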